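import Groth.Agent.QcMonoLib.Stack
import Groth.Agent.ASt.DiagSq
/-!
Quasi-compactness of the diagonal from quasi-compact automorphism spaces and a generic isomorphism condition.
-/

set_option autoImplicit false
set_option backward.isDefEq.respectTransparency false
set_option backward.isDefEq.respectTransparency.types false
set_option linter.unusedSectionVars false
set_option linter.style.haveILetI false

universe u

open CategoryTheory CategoryTheory.Limits AlgebraicGeometry Opposite Topology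

namespace Groth.Agent.QcMonoLib

open _root_.AlgSp Groth.Agent.ASt Groth.Agent.ASp

variable {S : Scheme.{u}} {𝒳 : AlgSt.Cat S} [h𝒳 : FibCat.IsFibGrpd 𝒳.p]

/-- Functors out of a slice agree after projection to the base. -/
noncomputable def selfIso {W : Over S} (a b : FibCat.overCat W ⥤ᵇ 𝒳) :
    BasedFunctor.comp a (FibCat.toSelf 𝒳) ≅ BasedFunctor.comp b (FibCat.toSelf 𝒳) :=
  funIso (y := BasedFunctor.comp a (FibCat.toSelf 𝒳)) (y' := BasedFunctor.comp b (FibCat.toSelf 𝒳))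
    (eqToHom ((a.w_obj (ov (𝟙 W))).trans (b.w_obj (ov (𝟙 W))).symm)) rfl

/-- A pair of objects. -/
noncomputable def pairOf {W : Over S} (a b : FibCat.overCat W ⥤ᵇ 𝒳) :
    FibCat.overCat W ⥤ᵇ FibCat.fp (FibCat.toSelf 𝒳) (FibCat.toSelf 𝒳) :=
  FibCat.fpLift a b (selfIso a b)

/-- Isomorphisms of pairs. -/
noncomputable def pairIso {W : Over S} {A B : FibCat.overCat W ⥤ᵇ FibCat.fp (FibCat.toSelf 𝒳) (FibCat.toSelf 𝒳)}
    (α : BasedFunctor.comp A (FibCat.fpFst (FibCat.toSelf 𝒳) (FibCat.toSelf 𝒳)) ≅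
      BasedFunctor.comp B (FibCat.fpFst (FibCat.toSelf 𝒳) (FibCat.toSelf 𝒳)))
    (β : BasedFunctor.comp A (FibCat.fpSnd (FibCat.toSelf 𝒳) (FibCat.toSelf 𝒳)) ≅
      BasedFunctor.comp B (FibCat.fpSnd (FibCat.toSelf 𝒳) (FibCat.toSelf 𝒳))) : A ≅ B :=
  fpIsoMk α β fun x => by
    have hA : (A.obj x).obj.iso.hom = eqToHom _ := fp_iso_map (A.obj x)
    have hB : (B.obj x).obj.iso.hom = eqToHom _ := fp_iso_map (B.obj x)
    change 𝒳.p.map (α.hom.toNatTrans.app x) ≫ _ = _ ≫ 𝒳.p.map (β.hom.toNatTrans.app x)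
    rw [hA, hB, map_app, map_app]
    exact (eqToHom_trans _ _).trans (eqToHom_trans _ _).symm

theorem compactSpace_of_fibHas_qc {𝒴 𝒵 : AlgSt.Cat S} [FibCat.IsFibGrpd 𝒴.p] [FibCat.IsFibGrpd 𝒵.p]
    {g : 𝒴 ⥤ᵇ 𝒵} {W : Over S} [IsAffine W.left] {a : FibCat.overCat W ⥤ᵇ 𝒵} (h : FibHas IsQuasiCompactMor a g)
    (hs : Presheaf.IsSheaf (J S) (fib a g)) : CompactSpace (Points (⟨fib a g, hs⟩ : Sp S)) := by
  obtain ⟨_, hA, hq⟩ := h
  haveI := (Points.schemeHomeo W).compactSpace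
  exact compactSpace_of_isQuasiCompactSp (hq (IsAlgSpace.yon_obj W)
    (isQuasiCompactSp_of_compactSpace (IsAlgSpace.yon_obj W)) (𝟙 _) (𝟙 _) _ (IsPullback.of_id_fst))

section Main

variable (hf : AlgSt.RepByAlgSp1 (FibCat.diag (FibCat.toSelf 𝒳)))
  (hi : ∀ (U : Over S), IsAffine U.left → ∀ (x : FibCat.overCat U ⥤ᵇ 𝒳),
      FibHas IsQuasiCompactMor (FibCat.fpLift x x (Iso.refl _)) (FibCat.diag (FibCat.toSelf 𝒳)))
  (hii : ∀ (U : Over S), IsAffine U.left → IsIntegral U.left → ∀ (x y : FibCat.overCat U ⥤ᵇ 𝒳)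
      (D : Set ↥U.left), Dense D →
      (∀ t ∈ D, ∃ (L : Type u) (_ : Field L) (g : Spec (CommRingCat.of L) ⟶ U.left), Set.range g.base = {t} ∧
        Nonempty (BasedFunctor.comp (AlgSt.overMap (Over.homMk g rfl : Over.mk (g ≫ U.hom) ⟶ U)) x ≅
          BasedFunctor.comp (AlgSt.overMap (Over.homMk g rfl : Over.mk (g ≫ U.hom) ⟶ U)) y)) →
      ∃ V : U.left.Opens, Dense (V : Set ↥U.left) ∧
        Nonempty (BasedFunctor.comp (AlgSt.overMap (Over.homMk V.ι rfl : Over.mk (V.ι ≫ U.hom) ⟶ U)) x ≅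
          BasedFunctor.comp (AlgSt.overMap (Over.homMk V.ι rfl : Over.mk (V.ι ≫ U.hom) ⟶ U)) y))

include hf hi hii in
theorem compactSpace_isom_noeth {R : CommRingCat.{u}} [IsNoetherianRing R] (str : Spec R ⟶ S)
    (a : FibCat.overCat (Over.mk str) ⥤ᵇ FibCat.fp (FibCat.toSelf 𝒳) (FibCat.toSelf 𝒳))
    (hs : Presheaf.IsSheaf (J S) (fib a (FibCat.diag (FibCat.toSelf 𝒳)))) :
    CompactSpace (Points (⟨fib a (FibCat.diag (FibCat.toSelf 𝒳)), hs⟩ : Sp S)) := by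
  let Δ := FibCat.diag (FibCat.toSelf 𝒳)
  let A : Over S := Over.mk str
  let π : (⟨fib a Δ, hs⟩ : Sp S) ⟶ (yon S).obj A := ObjectProperty.homMk (fibπ a Δ)
  let f : Points (⟨fib a Δ, hs⟩ : Sp S) → ↥(Spec R) := fun x => (Points.schemeHomeo A).symm (Points.map π x)
  haveI : TopologicalSpace.NoetherianSpace ↥(Spec R) := inferInstanceAs (TopologicalSpace.NoetherianSpace (PrimeSpectrum R))
  refine compactSpace_of_preimage f fun Z hZc hZi hd => ?_
  haveI hp : (PrimeSpectrum.vanishingIdeal Z).IsPrime :=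
    (PrimeSpectrum.isIrreducible_iff_vanishingIdeal_isPrime).1 hZi
  let p := PrimeSpectrum.vanishingIdeal Z
  let jp := Spec.map (CommRingCat.ofHom (Ideal.Quotient.mk p))
  have hj : Topology.IsClosedEmbedding jp :=
    PrimeSpectrum.isClosedEmbedding_comap_of_surjective _ _ Ideal.Quotient.mk_surjective
  have hr : Set.range jp = Z := by
    refine (range_comap_of_surjective _ _ Ideal.Quotient.mk_surjective).trans ?_
    rw [Ideal.mk_ker]
    exact (PrimeSpectrum.zeroLocus_vanishingIdeal_eq_closure Z).trans hZc.closure_eq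
  haveI : IsDomain (CommRingCat.of (R ⧸ p)) := Ideal.Quotient.isDomain p
  let U₀ : Over S := Over.mk (jp ≫ str)
  let j : U₀ ⟶ A := Over.homMk jp rfl
  let a' := BasedFunctor.comp (AlgSt.overMap j) a
  obtain ⟨hs', -⟩ := (repByAlgSp1_iff.1 hf).2 U₀ a'
  let π' : (⟨fib a' Δ, hs'⟩ : Sp S) ⟶ (yon S).obj U₀ := ObjectProperty.homMk (fibπ a' Δ)
  have sqj : IsPullback (ObjectProperty.homMk (clFun (restrF j a Δ)) :
      (⟨fib a' Δ, hs'⟩ : Sp S) ⟶ (⟨fib a Δ, hs⟩ : Sp S)) π' π ((yon S).map j) :=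
    IsPullback.of_map_of_faithful (sheafToPresheaf (J S) (Type (u + 1))) (isPullback_restrF j a)
  let D : Set ↥(Spec (CommRingCat.of (R ⧸ p))) := jp ⁻¹' Set.range f
  have hD : Dense D := fun q => by
    rw [hj.isInducing.closure_eq_preimage_closure_image, Set.image_preimage_eq_inter_range, hr]
    exact hd (hr ▸ Set.mem_range_self q)
  let b₁ := BasedFunctor.comp a' (FibCat.fpFst (FibCat.toSelf 𝒳) (FibCat.toSelf 𝒳))
  let b₂ := BasedFunctor.comp a' (FibCat.fpSnd (FibCat.toSelf 𝒳) (FibCat.toSelf 𝒳))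
  haveI hU : IsIntegral U₀.left := inferInstanceAs (IsIntegral (Spec _))
  obtain ⟨V, hV, ⟨β⟩⟩ := hii U₀ (inferInstanceAs (IsAffine (Spec _))) hU
    b₁ b₂ D hD fun q hq => by
      obtain ⟨x, hx⟩ := hq
      obtain ⟨z, -, hz⟩ := points_exists_of_isPullback sqj x (Points.schemeHomeo U₀ q) (by
        rw [(Equiv.symm_apply_eq _).1 hx, Points.map_yon_map_apply]
        rfl)
      obtain ⟨T, σ, t, rfl⟩ := exists_ofPt_eq z
      obtain ⟨k₀, hk₀⟩ := (yon S).map_surjective (σ ≫ π')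
      have hkt : k₀.left t = q := by
        rw [Points.ofPt_eq_map_ofScheme, ← Points.map_comp, ← hk₀] at hz
        exact (Points.schemeHomeo U₀).injective ((Points.map_yon_map_apply k₀ t).symm.trans hz)
      let g := T.left.fromSpecResidueField t ≫ k₀.left
      refine ⟨T.left.residueField t, inferInstance, g, ?_, ?_⟩
      · ext w
        constructor
        · rintro ⟨v, rfl⟩
          change k₀.left (T.left.fromSpecResidueField t v) = q
          rw [T.left.fromSpecResidueField_apply t v, hkt]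
        · rintro rfl
          exact ⟨default, (congrArg k₀.left (T.left.fromSpecResidueField_apply t _)).trans hkt⟩
      · let k : Over.mk (g ≫ U₀.hom) ⟶ U₀ := Over.homMk g rfl
        let h : Over.mk (g ≫ U₀.hom) ⟶ T := Over.homMk (T.left.fromSpecResidueField t) (by
          change _ ≫ T.hom = (_ ≫ k₀.left) ≫ U₀.hom
          rw [Category.assoc, Over.w k₀])
        have hk : k = h ≫ k₀ := Over.OverMorphism.ext rfl
        obtain ⟨yp, ⟨α⟩⟩ := has_of_lifts a' hs' k ⟨(yon S).map h ≫ σ,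
          (Category.assoc _ _ _).trans ((congrArg ((yon S).map h ≫ ·) hk₀.symm).trans
            (((yon S).map_comp h k₀).symm.trans (congrArg (yon S).map hk.symm)))⟩
        exact ⟨(wR α (FibCat.fpFst (FibCat.toSelf 𝒳) (FibCat.toSelf 𝒳))).symm.trans
          (wR α (FibCat.fpSnd (FibCat.toSelf 𝒳) (FibCat.toSelf 𝒳)))⟩
  obtain ⟨q, hq⟩ := hV.nonempty
  obtain ⟨V₀, hV₀, hqV₀, hV₀V⟩ := exists_isAffineOpen_mem_and_subset hq
  let W : Over S := Over.mk (V₀.ι ≫ U₀.hom)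
  haveI : IsAffine W.left := hV₀
  let i₀ : W ⟶ U₀ := Over.homMk V₀.ι rfl
  let iV : Over.mk (V.ι ≫ U₀.hom) ⟶ U₀ := Over.homMk V.ι rfl
  let h₀ : W ⟶ Over.mk (V.ι ≫ U₀.hom) := Over.homMk (U₀.left.homOfLE hV₀V) (by
    change _ ≫ V.ι ≫ U₀.hom = V₀.ι ≫ U₀.hom
    rw [Scheme.homOfLE_ι_assoc])
  have hh₀ : h₀ ≫ iV = i₀ := Over.OverMorphism.ext (U₀.left.homOfLE_ι hV₀V)
  let γ : BasedFunctor.comp (AlgSt.overMap i₀) b₁ ≅ BasedFunctor.comp (AlgSt.overMap i₀) b₂ :=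
    (congrIso hh₀.symm b₁).trans ((assocIso h₀ iV b₁).symm.trans ((wL (AlgSt.overMap h₀) β).trans
      ((assocIso h₀ iV b₂).trans (congrIso hh₀ b₂))))
  let a'' := BasedFunctor.comp (AlgSt.overMap i₀) a'
  let c := BasedFunctor.comp (AlgSt.overMap i₀) b₁
  let δ : a'' ≅ FibCat.fpLift c c (Iso.refl _) :=
    pairIso (B := FibCat.fpLift c c (Iso.refl _)) (Iso.refl c) γ.symm
  obtain ⟨hs'', hA''⟩ := (repByAlgSp1_iff.1 hf).2 W a''
  haveI := compactSpace_of_fibHas_qc (fibHas_congr δ.symm (hi W ‹_› c)) hs''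
  let r : (⟨fib a'' Δ, hs''⟩ : Sp S) ⟶ (⟨fib a Δ, hs⟩ : Sp S) :=
    (ObjectProperty.homMk (clFun (restrF i₀ a' Δ)) : (⟨fib a'' Δ, hs''⟩ : Sp S) ⟶ (⟨fib a' Δ, hs'⟩ : Sp S)) ≫
      (ObjectProperty.homMk (clFun (restrF j a Δ)) : (⟨fib a' Δ, hs'⟩ : Sp S) ⟶ (⟨fib a Δ, hs⟩ : Sp S))
  have sqi : IsPullback (ObjectProperty.homMk (clFun (restrF i₀ a' Δ)) :
      (⟨fib a'' Δ, hs''⟩ : Sp S) ⟶ (⟨fib a' Δ, hs'⟩ : Sp S)) (ObjectProperty.homMk (fibπ a'' Δ)) π'
      ((yon S).map i₀) :=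
    IsPullback.of_map_of_faithful (sheafToPresheaf (J S) (Type (u + 1))) (isPullback_restrF i₀ a')
  obtain ⟨O, hO, hOV⟩ := hj.isInducing.isOpen_iff.1 V₀.2
  refine ⟨O, hO, ⟨jp q, (Set.ext_iff.1 hOV q).2 hqV₀, hr ▸ Set.mem_range_self q⟩,
    Set.range (Points.map r), isCompact_range (Points.continuous_map r), ?_⟩
  rintro x ⟨hxO, hxZ⟩
  obtain ⟨w, hw⟩ := hr.symm ▸ hxZ
  have hwV : w ∈ V₀ := (Set.ext_iff.1 hOV w).1 (show jp w ∈ O from hw ▸ hxO)
  have e : Points.map π x = Points.map ((yon S).map (i₀ ≫ j)) (Points.schemeHomeo W (⟨w, hwV⟩ : ↥V₀)) := by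
    rw [Points.map_yon_map_apply]
    exact ((Equiv.symm_apply_eq _).1 (rfl : f x = f x)).trans (congrArg (Points.schemeHomeo A) hw.symm)
  obtain ⟨z, hz, -⟩ := points_exists_of_isPullback (sqi.paste_horiz sqj) x
    (Points.schemeHomeo W (⟨w, hwV⟩ : ↥V₀)) (by rw [← Functor.map_comp]; exact e)
  exact ⟨z, hz⟩

include hf hi hii in
theorem repByAlgSpWith_qc_diag [IsLocallyNoetherian S] {U₀ : Over S} (x : FibCat.overCat U₀ ⥤ᵇ 𝒳)
    (hx : AlgSt.RepByAlgSpWith (LocP @Smooth) x) (hxs : AlgSt.RepByAlgSpWith IsSurjectiveMor x)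
    [LocallyOfFinitePresentation U₀.hom] :
    AlgSt.RepByAlgSpWith AlgSp.IsQuasiCompactMor (FibCat.diag (FibCat.toSelf 𝒳)) := by
  let P : Over S := Over.mk (pullback.fst U₀.hom U₀.hom ≫ U₀.hom)
  let pr₁ : P ⟶ U₀ := Over.homMk (pullback.fst U₀.hom U₀.hom) rfl
  let pr₂ : P ⟶ U₀ := Over.homMk (pullback.snd U₀.hom U₀.hom) pullback.condition.symm
  haveI : IsLocallyNoetherian P.left :=
    LocallyOfFiniteType.isLocallyNoetherian (pullback.fst U₀.hom U₀.hom ≫ U₀.hom)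
  refine repByAlgSpWith_qc_of_compact hf (fun str a hs => compactSpace_isom_noeth hf hi hii str a hs)
    (pairOf (BasedFunctor.comp (AlgSt.overMap pr₁) x) (BasedFunctor.comp (AlgSt.overMap pr₂) x)) fun {W} yW => ?_
  let a₁ := BasedFunctor.comp yW (FibCat.fpFst (FibCat.toSelf 𝒳) (FibCat.toSelf 𝒳))
  let a₂ := BasedFunctor.comp yW (FibCat.fpSnd (FibCat.toSelf 𝒳) (FibCat.toSelf 𝒳))
  obtain ⟨V₁, l₁, u₁, hl₁, hls₁, ⟨α₁⟩⟩ := exists_overMap_iso hx hxs a₁
  obtain ⟨V₂, l₂, u₂, hl₂, hls₂, ⟨α₂⟩⟩ := exists_overMap_iso hx hxs (BasedFunctor.comp (AlgSt.overMap l₁) a₂)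
  let u : V₂ ⟶ P := Over.homMk (pullback.lift (l₂ ≫ u₁).left u₂.left (by rw [Over.w, Over.w])) (by
    change _ ≫ pullback.fst _ _ ≫ _ = _
    rw [pullback.lift_fst_assoc, Over.w])
  have h₁ : u ≫ pr₁ = l₂ ≫ u₁ := Over.OverMorphism.ext (pullback.lift_fst _ _ _)
  have h₂ : u ≫ pr₂ = u₂ := Over.OverMorphism.ext (pullback.lift_snd _ _ _)
  haveI := hl₁; haveI := hl₂; haveI := hls₁; haveI := hls₂
  refine ⟨V₂, l₂ ≫ l₁, u, inferInstanceAs (Smooth (l₂.left ≫ l₁.left)), inferInstanceAs (Surjective (l₂.left ≫ l₁.left)),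
    ⟨pairIso ?_ ?_⟩⟩
  · exact (assocIso l₂ l₁ a₁).symm.trans ((wL (AlgSt.overMap l₂) α₁).trans ((assocIso l₂ u₁ x).trans
      ((congrIso h₁.symm x).trans (assocIso u pr₁ x).symm)))
  · exact (assocIso l₂ l₁ a₂).symm.trans (α₂.trans ((congrIso h₂.symm x).trans (assocIso u pr₂ x).symm))

end Main

end Groth.Agent.QcMonoLib
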