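import Groth.Agent.ASt.DiagFppf
import Groth.Agent.ASt.DiagCancel
import Groth.Agent.ASp.LargestOpen
import Groth.Agent.ASp.LqfRep
import Groth.Agent.ASp.QAffMor
import Groth.Agent.ObsLib.QuasiAffine
import Groth.Agent.S10541
import Groth.Agent.S10543
/-!
Diagonals of stacks with an etale chart: unramified, and quasi-affine when separated and quasi-compact.
-/

set_option autoImplicit false
set_option backward.isDefEq.respectTransparency false
set_option backward.isDefEq.respectTransparency.types false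
set_option linter.unusedSectionVars false
set_option linter.style.haveILetI false

universe u

open CategoryTheory CategoryTheory.Limits AlgebraicGeometry Opposite

namespace Groth.Agent.QcMonoLib

open _root_.AlgSp Groth.Agent.ASt Groth.Agent.ASp

variable {S : Scheme.{u}}

instance respectsIso_isQuasiAffineMor : (AlgSp.IsQuasiAffineMor (S := S)).RespectsIso := by
  refine MorphismProperty.RespectsIso.mk _ (fun {X Y Z} e f h W hW g => ?_) (fun {X Y Z} e f h W hW g => ?_)
  · obtain ⟨V, i, fst, sq, hV⟩ := h hW g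
    exact ⟨V, i, fst ≫ e.inv, IsPullback.of_iso sq (Iso.refl _) e.symm (Iso.refl _) (Iso.refl _) (by simp) (by simp)
      (by simp) (by simp), hV⟩
  · obtain ⟨V, i, fst, sq, hV⟩ := h hW (g ≫ e.inv)
    exact ⟨V, i, fst, IsPullback.of_iso sq (Iso.refl _) (Iso.refl _) (Iso.refl _) e (by simp) (by simp)
      (by simp) (by simp), hV⟩

/-- An etale chart makes the diagonal over the base unramified. -/
theorem isDMOver_of_etale_chart {𝒳 : AlgSt.Cat S} [FibCat.IsFibGrpd 𝒳.p]
    (hΔ : AlgSt.RepByAlgSp1 (FibCat.diag (FibCat.toSelf 𝒳))) (h : AlgSt.HasAtlas IsEtaleMor 𝒳) :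
    AlgSt.IsDMOver 𝒳 := by
  obtain ⟨W, a, ha, has⟩ := h
  have hE : ∀ {P : MorphismProperty Scheme.{u}}, (∀ {X Y : Scheme.{u}} (g : X ⟶ Y), Etale g → P g) →
      AlgSt.RepByAlgSpWith (LocP P) a := fun hP =>
    repByAlgSpWith_mono (fun _ _ _ _ hY h => locP_mono (fun _ _ g hg => hP g hg) ((isEtaleMor_iff_locP hY).1 h)) ha
  haveI : ASp.IsEtLocal (@LocallyOfFiniteType ⊓ @FormallyUnramified) := inferInstance
  exact ASt.repByAlgSpWith_diag_toSelf_of_fppf_chart (Q := @LocallyOfFiniteType ⊓ @FormallyUnramified)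
    (fun f g h => ⟨haveI := h.1; locallyOfFiniteType_of_comp f g, haveI := h.2; FormallyUnramified.of_comp f g⟩)
    (fun ι Y Yi g hY hYi hτ X a hX Xi p q hXi sq =>
      Groth.Agent.S10543.result S Yi g hY hYi (ASp.isFpqcCover_of_fppf hY hYi (fun i => (hτ.1 i).1)
        (fun i => (hτ.1 i).2) hτ.2) a hX Xi p q hXi sq)
    (a := a) hΔ (hE fun g hg => (haveI := hg; inferInstance : Flat g))
    (hE fun g hg => (haveI := hg; inferInstance : LocallyOfFinitePresentation g))
    (ASt.isSurjective_of_repByAlgSpWith has)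
    (hE fun g hg => ASp.IsEtLocal.etale_le (P := @LocallyOfFiniteType ⊓ @FormallyUnramified) g hg)

/-- Separated, quasi-compact, locally quasi-finite morphisms of algebraic spaces are quasi-affine. -/
theorem isQuasiAffineMor_of_sep_qc_lqf {X Y : Sp S} (hX : IsAlgSpace X) (hY : IsAlgSpace Y) (f : X ⟶ Y)
    (hsep : IsSeparatedMor f) (hqc : IsQuasiCompactMor f)
    (hqf : LocP (@LocallyQuasiFinite ⊓ @LocallyOfFiniteType) f) : IsQuasiAffineMor f := by
  intro Z hZ g
  haveI := hZ
  have hrep := representable_of_sep_lqf hX hY f hqf hsep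
  have sq := hrep.isPullback g
  refine ⟨_, hrep.snd g, hrep.fst g, sq, ?_⟩
  haveI : IsSeparated (hrep.snd g).left := ((isSeparatedMor_iff hrep).1 hsep).2 _ _ _ sq
  have h := (repWith_of_locP hY hrep hqf).2 _ _ _ sq
  haveI : LocallyQuasiFinite (hrep.snd g).left := h.1
  haveI : LocallyOfFiniteType (hrep.snd g).left := h.2
  haveI : QuasiCompact (hrep.snd g).left := ((repWith_quasiCompact_iff hrep).2 hqc).2 _ _ _ sq
  haveI : CompactSpace ↥(hrep.pullback g).left :=
    QuasiCompact.compactSpace_of_compactSpace (hrep.snd g).left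
  exact ObsLib.isQuasiAffine_of_quasiFinite (hrep.snd g).left

theorem repByAlgSpWith_qaff_of_dm {𝒳 𝒴 : AlgSt.Cat S} [FibCat.IsFibGrpd 𝒳.p] [FibCat.IsFibGrpd 𝒴.p]
    {f : 𝒳 ⥤ᵇ 𝒴} (hu : AlgSt.RepByAlgSpWith (LocP (@LocallyOfFiniteType ⊓ @FormallyUnramified)) f)
    (hsep : AlgSt.RepByAlgSpWith IsSeparatedMor f) (hqc : AlgSt.RepByAlgSpWith IsQuasiCompactMor f) :
    AlgSt.RepByAlgSpWith IsQuasiAffineMor f := by
  intro U y
  obtain ⟨hs, hA, h1⟩ := (repByAlgSpWith_iff.1 hu).2 U y
  obtain ⟨_, _, h2⟩ := (repByAlgSpWith_iff.1 hsep).2 U y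
  obtain ⟨_, _, h3⟩ := (repByAlgSpWith_iff.1 hqc).2 U y
  haveI := faithful_of_repByAlgSp1 (repByAlgSp1_of_with hu)
  exact exists_rep_of_fibHas ⟨hs, hA, isQuasiAffineMor_of_sep_qc_lqf hA (IsAlgSpace.yon_obj U) _ h2 h3
    (locP_mono (fun _ _ g (hg : (@LocallyOfFiniteType ⊓ @FormallyUnramified : MorphismProperty Scheme.{u}) g) =>
      (haveI := hg.1; haveI := hg.2; ⟨ASt.locallyQuasiFinite_of_unramified g, hg.1⟩ :
        (@LocallyQuasiFinite ⊓ @LocallyOfFiniteType : MorphismProperty Scheme.{u}) g)) h1)⟩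

end Groth.Agent.QcMonoLib
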