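import Groth.Agent.ZMTFactorLib.Basic
import Groth.Agent.ASp.MonoLQF
import Groth.Agent.ASp.FieldMono
import Groth.Agent.UnivOpenAtLib.Dvr
import Groth.Agent.FlatLocus.ImageClosure
/-!
A quasi-compact monomorphism of finite type satisfying the lifting property for discrete valuation rings
with both ends lifting is an immersion.
-/

set_option autoImplicit false
set_option backward.isDefEq.respectTransparency false
set_option backward.isDefEq.respectTransparency.types false
set_option linter.style.haveILetI false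

universe u

open CategoryTheory CategoryTheory.Limits AlgebraicGeometry TopologicalSpace Topology

namespace Groth.Agent.QcMonoLib

theorem isDominant_generic (A : Type u) [CommRing A] [IsDomain A] :
    IsDominant (Spec.map (CommRingCat.ofHom (algebraMap A (FractionRing A)))) := by
  rw [isDominant_iff]
  exact PrimeSpectrum.denseRange_comap_iff_ker_le_nilRadical _ |>.mpr
    (((RingHom.injective_iff_ker_eq_bot _).mp (IsFractionRing.injective A (FractionRing A))).le.trans bot_le)

/-- A monomorphism with nonempty source to the spectrum of a field is an isomorphism. -/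
theorem isIso_of_mono_to_field {K : Type u} [Field K] {Z : Scheme.{u}} (g : Z ⟶ Spec (CommRingCat.of K))
    [Mono g] [QuasiCompact g] [Nonempty Z] : IsIso g := by
  haveI : Flat g := by
    rw [IsZariskiLocalAtSource.iff_of_openCover (P := @Flat) Z.affineCover]
    exact fun i => ASp.flat_to_field _
  haveI : Surjective g := ⟨fun x => ⟨Classical.arbitrary _, Subsingleton.elim _ _⟩⟩
  exact Flat.isIso_of_surjective_of_mono g

/-- A quasi-compact monomorphism of finite type to a Noetherian scheme is an immersion when maps from discrete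
valuation rings with both ends factoring through it factor through it. -/
theorem isImmersion_of_dvr {V X : Scheme.{u}} [IsLocallyNoetherian X] [CompactSpace X] [QuasiSeparatedSpace X]
    (v : V ⟶ X) [Mono v] [LocallyOfFiniteType v] [QuasiCompact v]
    (hdvr : ∀ (A : Type u) [CommRing A] [IsDomain A] [IsDiscreteValuationRing A]
      (h : Spec (CommRingCat.of A) ⟶ X),
      (∃ lK, lK ≫ v = Spec.map (CommRingCat.ofHom (algebraMap A (FractionRing A))) ≫ h) →
      (∃ lk, lk ≫ v = Spec.map (CommRingCat.ofHom (IsLocalRing.residue A)) ≫ h) → ∃ l, l ≫ v = h) :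
    IsImmersion v := by
  haveI : LocallyQuasiFinite v := ASp.locallyQuasiFinite_of_mono' v
  haveI : LocallyOfFiniteType (v.toNormalization ≫ v.fromNormalization) := by
    rw [Scheme.Hom.toNormalization_fromNormalization]; infer_instance
  obtain ⟨T, q, π, hπ, hqπ, ho, hqc⟩ := ZMTFactorLib.exists_finite_factor v.fromNormalization v.toNormalization
  haveI := hπ
  let j := v.toNormalization ≫ q
  haveI : IsOpenImmersion j := ho
  haveI : QuasiCompact j := hqc
  have hjπ : j ≫ π = v := by rw [Category.assoc, hqπ, Scheme.Hom.toNormalization_fromNormalization]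
  haveI : IsLocallyNoetherian T := LocallyOfFiniteType.isLocallyNoetherian π
  let C : Set T := closure (Set.range j) \ Set.range j
  have hC : IsClosed C := isClosed_closure.sdiff j.isOpenEmbedding.isOpen_range
  let U : X.Opens := ⟨(π '' C)ᶜ, (π.isClosedMap _ hC).isOpen_compl⟩
  have hvU : ∀ y, v y ∈ U := by
    rintro y ⟨y', ⟨hy', hny'⟩, e⟩
    obtain ⟨w, -, hw⟩ := FlatLocus.exists_specializes_of_mem_closure_image j isClosed_univ
      (show y' ∈ closure (j '' Set.univ) by rwa [Set.image_univ])
    obtain ⟨A, _, _, _, g, hgc, hgη⟩ := UnivOpenAtLib.exists_dvr_specialization hw fun e => hny' ⟨w, e⟩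
    let ιK := Spec.map (CommRingCat.ofHom (algebraMap A (FractionRing A)))
    let ιk := Spec.map (CommRingCat.ofHom (IsLocalRing.residue A))
    have hιK : ∀ s, ιK s ≠ IsLocalRing.closedPoint A := fun s h => by
      obtain rfl : s = ⟨⊥, Ideal.isPrime_bot⟩ := Subsingleton.elim _ _
      refine IsDiscreteValuationRing.not_a_field A ?_
      have h' : Ideal.comap (algebraMap A (FractionRing A)) ⊥ = IsLocalRing.maximalIdeal A :=
        congrArg PrimeSpectrum.asIdeal h
      rw [← h', ← RingHom.ker_eq_comap_bot]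
      exact (RingHom.injective_iff_ker_eq_bot _).mp (IsFractionRing.injective A (FractionRing A))
    have hrK : Set.range (ιK ≫ g) ⊆ Set.range j := by
      rintro _ ⟨s, rfl⟩
      exact ⟨w, (hgη _ (hιK s)).symm⟩
    let lK := IsOpenImmersion.lift j (ιK ≫ g) hrK
    have hlK : lK ≫ j = ιK ≫ g := IsOpenImmersion.lift_fac _ _ _
    have hlk : ∃ lk, lk ≫ v = ιk ≫ g ≫ π := by
      obtain ⟨s⟩ : Nonempty ↥(Spec (CommRingCat.of (IsLocalRing.ResidueField A))) := inferInstance
      obtain ⟨z, -, -⟩ := Scheme.Pullback.exists_preimage_pullback (f := v) (g := ιk ≫ g ≫ π) y s (by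
        have hs : ιk s = IsLocalRing.closedPoint A := by
          obtain rfl : s = IsLocalRing.closedPoint _ := Subsingleton.elim _ _
          exact IsLocalRing.comap_closedPoint (IsLocalRing.residue A)
        rw [Scheme.Hom.comp_apply, Scheme.Hom.comp_apply, hs]
        exact e.symm.trans (congrArg π hgc).symm)
      haveI : Nonempty ↥(pullback v (ιk ≫ g ≫ π)) := ⟨z⟩
      haveI := isIso_of_mono_to_field (pullback.snd v (ιk ≫ g ≫ π))
      exact ⟨inv (pullback.snd v (ιk ≫ g ≫ π)) ≫ pullback.fst v _, by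
        rw [Category.assoc, pullback.condition, IsIso.inv_hom_id_assoc]⟩
    obtain ⟨l, hl⟩ := hdvr A (g ≫ π) ⟨lK, by rw [← hjπ, reassoc_of% hlK]⟩ hlk
    haveI := isDominant_generic A
    have hlg : l ≫ j = g := ext_of_isDominant_of_isSeparated π (by rw [Category.assoc, hjπ, hl]) ιK (by
      rw [← hlK, ← Category.assoc]
      congr 1
      rw [← cancel_mono v, Category.assoc, hl, ← hjπ, reassoc_of% hlK])
    exact hny' ⟨l (IsLocalRing.closedPoint A), by rw [← Scheme.Hom.comp_apply, hlg]; exact hgc⟩
  haveI : IsClosedImmersion (j ∣_ (π ⁻¹ᵁ U)) := by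
    refine IsClosedImmersion.of_isPreimmersion _ ?_
    rw [show Set.range (j ∣_ (π ⁻¹ᵁ U)) = (π ⁻¹ᵁ U).ι ⁻¹' closure (Set.range j) from ?_]
    · exact isClosed_closure.preimage (π ⁻¹ᵁ U).ι.continuous
    ext t
    constructor
    · rintro ⟨s, rfl⟩
      refine subset_closure ⟨(j ⁻¹ᵁ π ⁻¹ᵁ U).ι s, ?_⟩
      rw [← Scheme.Hom.comp_apply, ← morphismRestrict_ι, Scheme.Hom.comp_apply]
    · intro ht
      by_cases h : (π ⁻¹ᵁ U).ι t ∈ Set.range j
      · obtain ⟨s, hs⟩ := h
        refine ⟨⟨s, show j s ∈ π ⁻¹ᵁ U from hs ▸ t.2⟩, (π ⁻¹ᵁ U).ι.isOpenEmbedding.injective ?_⟩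
        rw [← Scheme.Hom.comp_apply, morphismRestrict_ι, Scheme.Hom.comp_apply]
        exact hs
      · exact absurd ⟨_, ⟨ht, h⟩, rfl⟩ (t.2 : π ((π ⁻¹ᵁ U).ι t) ∈ U)
  haveI : IsFinite (π ∣_ U) := inferInstance
  haveI : IsFinite (v ∣_ U) := by
    rw [← hjπ, morphismRestrict_comp]
    infer_instance
  haveI : Mono (v ∣_ U) := MorphismProperty.of_isPullback (P := MorphismProperty.monomorphisms Scheme.{u})
    (isPullback_morphismRestrict v U).flip ‹Mono v›
  haveI : IsClosedImmersion (v ∣_ U) := (IsClosedImmersion.iff_isProper_and_mono _).2 ⟨inferInstance, ‹_›⟩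
  have htop : v ⁻¹ᵁ U = ⊤ := eq_top_iff.2 fun y _ => hvU y
  haveI : IsIso (v ⁻¹ᵁ U).ι := by rw [htop]; exact inferInstanceAs (IsIso (V.topIso).hom)
  rw [← IsIso.inv_hom_id_assoc (v ⁻¹ᵁ U).ι v, ← morphismRestrict_ι]
  infer_instance

end Groth.Agent.QcMonoLib
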