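import Groth.Agent.QcMonoLib.Stack
import Groth.Agent.QcMonoLib.ImmDvr
import Groth.Agent.ASp.LargestOpen
import Groth.Agent.ASp.UnramMono
import Groth.Agent.ASt.DiagConv
import Groth.Agent.ASt.ImmNoeth
import Groth.Agent.S10538
/-!
A monomorphism of stacks with generic lifting and the lifting property for discrete valuation rings is an immersion.
-/

set_option autoImplicit false
set_option backward.isDefEq.respectTransparency false
set_option backward.isDefEq.respectTransparency.types false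
set_option linter.unusedSectionVars false
set_option linter.style.haveILetI false

universe u

open CategoryTheory CategoryTheory.Limits AlgebraicGeometry Opposite Topology

namespace Groth.Agent.QcMonoLib

open _root_.AlgSp Groth.Agent.ASt Groth.Agent.ASp

variable {S : Scheme.{u}} {𝒳 𝒴 : AlgSt.Cat S} [h𝒳 : FibCat.IsFibGrpd 𝒳.p] [h𝒴 : FibCat.IsFibGrpd 𝒴.p]
  {f : 𝒴 ⥤ᵇ 𝒳}

theorem isLocalOnBase_fppf_qcImm :
    IsLocalOnBase (IsFppfCover (S := S)) (RepWith (@IsImmersion ⊓ @QuasiCompact)) := by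
  intro ι Y Yi g hY hYi hτ X f hX Xi p q hXi hsq
  exact Groth.Agent.S10538.result (S := S) Yi g hY hYi
    (isFpqcCover_of_fppf hY hYi (fun i => (hτ.1 i).1) (fun i => (hτ.1 i).2) hτ.2) f hX Xi p q hXi hsq

/-- The lifting property for discrete valuation rings, on the chart. -/
def DvrLift (f : 𝒴 ⥤ᵇ 𝒳) : Prop :=
  ∀ (A : Type u) [CommRing A] [IsDomain A] [IsDiscreteValuationRing A] (sA : Spec (CommRingCat.of A) ⟶ S)
    (a : FibCat.overCat (Over.mk sA) ⥤ᵇ 𝒳),
    Has f a (Over.homMk (Spec.map (CommRingCat.ofHom (algebraMap A (FractionRing A)))) rfl :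
      Over.mk (Spec.map (CommRingCat.ofHom (algebraMap A (FractionRing A))) ≫ sA) ⟶ Over.mk sA) →
    Has f a (Over.homMk (Spec.map (CommRingCat.ofHom (IsLocalRing.residue A))) rfl :
      Over.mk (Spec.map (CommRingCat.ofHom (IsLocalRing.residue A)) ≫ sA) ⟶ Over.mk sA) →
    ∃ y : FibCat.overCat (Over.mk sA) ⥤ᵇ 𝒴, Nonempty (BasedFunctor.comp y f ≅ a)

theorem fibHas_qcImm {U₀ : Over S} (x : FibCat.overCat U₀ ⥤ᵇ 𝒳) [IsLocallyNoetherian U₀.left]
    (hm : AlgSt.IsMono f) (hft : AlgSt.RepByAlgSpWith (LocP @LocallyOfFiniteType) f)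
    (hqc : AlgSt.RepByAlgSpWith AlgSp.IsQuasiCompactMor f) (hb : DvrLift f) :
    FibHas (RepWith (@IsImmersion ⊓ @QuasiCompact)) x f := by
  obtain ⟨hs, hA, hmono⟩ := (repByAlgSpWith_iff.1 hm).2 U₀ x
  obtain ⟨_, _, hft⟩ := (repByAlgSpWith_iff.1 hft).2 U₀ x
  obtain ⟨_, _, hqc⟩ := (repByAlgSpWith_iff.1 hqc).2 U₀ x
  let π : (⟨fib x f, hs⟩ : Sp S) ⟶ (yon S).obj U₀ := ObjectProperty.homMk (fibπ x f)
  haveI : Mono π := hmono
  have hrep : Representable π := representable_of_mono_lft hA (IsAlgSpace.yon_obj U₀) hft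
  have sq := hrep.isPullback (𝟙 ((yon S).obj U₀))
  let v := hrep.snd (𝟙 ((yon S).obj U₀))
  let fst := hrep.fst (𝟙 ((yon S).obj U₀))
  haveI : IsIso fst := sq.isIso_fst_of_isIso
  have hfst : fst ≫ π = (yon S).map v := sq.w.trans (Category.comp_id _)
  haveI : Mono ((yon S).map v) := hfst ▸ mono_comp fst π
  haveI : Mono v := (yon S).mono_of_mono_map ‹_›
  haveI : Mono v.left := Over.mono_left_of_mono v
  haveI : LocallyOfFiniteType v.left := (repWith_of_locP (IsAlgSpace.yon_obj U₀) hrep hft).2 _ _ _ sq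
  haveI : QuasiCompact v.left := ((repWith_quasiCompact_iff hrep).2 hqc).2 _ _ _ sq
  have hdvr : ∀ (A : Type u) [CommRing A] [IsDomain A] [IsDiscreteValuationRing A]
      (h : Spec (CommRingCat.of A) ⟶ U₀.left),
      (∃ lK, lK ≫ v.left = Spec.map (CommRingCat.ofHom (algebraMap A (FractionRing A))) ≫ h) →
      (∃ lk, lk ≫ v.left = Spec.map (CommRingCat.ofHom (IsLocalRing.residue A)) ≫ h) →
      ∃ l, l ≫ v.left = h := by
    intro A _ _ _ h hK hk
    let sA := h ≫ U₀.hom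
    let k₀ : Over.mk sA ⟶ U₀ := Over.homMk h rfl
    have key : ∀ {B : Scheme.{u}} (g : B ⟶ Spec (CommRingCat.of A)), (∃ l, l ≫ v.left = g ≫ h) →
        Has f (BasedFunctor.comp (AlgSt.overMap k₀) x) (Over.homMk g rfl : Over.mk (g ≫ sA) ⟶ Over.mk sA) := by
      rintro B g ⟨l, hl⟩
      let ig : Over.mk (g ≫ sA) ⟶ Over.mk sA := Over.homMk g rfl
      let l' : Over.mk (g ≫ sA) ⟶ hrep.pullback (𝟙 ((yon S).obj U₀)) := Over.homMk l (by
        change l ≫ _ = g ≫ h ≫ U₀.hom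
        rw [← Over.w v, reassoc_of% hl])
      have hl' : l' ≫ v = ig ≫ k₀ := Over.OverMorphism.ext hl
      obtain ⟨yp, ⟨α⟩⟩ := has_of_lifts x hs (ig ≫ k₀)
        ⟨(yon S).map l' ≫ fst, (Category.assoc _ _ _).trans ((congrArg ((yon S).map l' ≫ ·) hfst).trans
          (((yon S).map_comp l' v).symm.trans (congrArg (yon S).map hl')))⟩
      exact ⟨yp, ⟨α.trans (assocIso ig k₀ x).symm⟩⟩
    obtain ⟨σ, hσ⟩ := lifts_of_has x hs k₀ (hb A sA _ (key _ hK) (key _ hk))
    obtain ⟨l, hl⟩ := (yon S).map_surjective (σ ≫ inv fst)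
    refine ⟨l.left, ?_⟩
    have : l ≫ v = k₀ := (yon S).map_injective (by
      rw [Functor.map_comp, hl, ← hfst, Category.assoc, IsIso.inv_hom_id_assoc]; exact hσ)
    exact congrArg CommaMorphism.left this
  have hz : (@IsImmersion ⊓ @QuasiCompact : MorphismProperty Scheme.{u}) v.left := by
    refine ⟨IsZariskiLocalAtTarget.of_iSup_eq_top (fun A : U₀.left.affineOpens => A.1)
      (iSup_affineOpens_eq_top U₀.left) fun A => ?_, ‹_›⟩
    haveI : IsAffine A.1.toScheme := A.2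
    haveI : Mono (v.left ∣_ A.1) := MorphismProperty.of_isPullback (P := MorphismProperty.monomorphisms Scheme.{u})
      (isPullback_morphismRestrict v.left A.1).flip ‹Mono v.left›
    refine isImmersion_of_dvr (v.left ∣_ A.1) fun R _ _ _ h hK hk => ?_
    obtain ⟨lK, hlK⟩ := hK
    obtain ⟨lk, hlk⟩ := hk
    obtain ⟨l, hl⟩ := hdvr R (h ≫ A.1.ι)
      ⟨lK ≫ (v.left ⁻¹ᵁ A.1).ι, by rw [Category.assoc, ← morphismRestrict_ι, reassoc_of% hlK]⟩
      ⟨lk ≫ (v.left ⁻¹ᵁ A.1).ι, by rw [Category.assoc, ← morphismRestrict_ι, reassoc_of% hlk]⟩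
    refine ⟨(isPullback_morphismRestrict v.left A.1).lift h l hl.symm, (isPullback_morphismRestrict v.left A.1).lift_fst _ _ _⟩
  exact ⟨hs, hA, ((RepWith (@IsImmersion ⊓ @QuasiCompact)).arrow_mk_iso_iff
    (Arrow.isoMk (asIso fst) (Iso.refl _) (by simpa using hfst))).1 (repWith_yon_map hz)⟩

theorem repByAlgSpWith_qcImm (hf : AlgSt.RepByAlgSp1 f) (hm : AlgSt.IsMono f)
    (hft : AlgSt.RepByAlgSpWith (LocP @LocallyOfFiniteType) f)
    (hqc : AlgSt.RepByAlgSpWith AlgSp.IsQuasiCompactMor f) (hb : DvrLift f)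
    {U₀ : Over S} (x : FibCat.overCat U₀ ⥤ᵇ 𝒳) (hx : AlgSt.RepByAlgSpWith (LocP @Smooth) x)
    (hxs : AlgSt.RepByAlgSpWith IsSurjectiveMor x) [IsLocallyNoetherian U₀.left] :
    AlgSt.RepByAlgSpWith (RepWith (@IsImmersion ⊓ @QuasiCompact)) f := by
  refine repByAlgSpWith_iff.2 ⟨faithful_of_repByAlgSp1 hf, fun U y => ?_⟩
  obtain ⟨V, l, u, hl, hls, ⟨β⟩⟩ := exists_overMap_iso hx hxs y
  exact fibHas_of_cover isLocalOnBase_fppf_qcImm hf l y (fibHas_congr β.symm
    (fibHas_restr (fun _ _ _ _ _ _ _ _ _ _ _ _ sq h => repWith_of_isPullback sq h) hf u x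
      (fibHas_qcImm x hm hft hqc hb)))

theorem repByAlgSpWith_lft_of_lfp (h : AlgSt.RepByAlgSpWith (LocP @LocallyOfFinitePresentation) f) :
    AlgSt.RepByAlgSpWith (LocP @LocallyOfFiniteType) f := fun U y => by
  obtain ⟨F, e, he, hP⟩ := h U y
  exact ⟨F, e, he, locP_mono (fun _ _ g (hg : LocallyOfFinitePresentation g) =>
    (haveI := hg; inferInstance : LocallyOfFiniteType g)) hP⟩

end Groth.Agent.QcMonoLib
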