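import Mathlib.Topology.NoetherianSpace
import Mathlib.Topology.Sober
/-!
Compactness of the source of an injective map to a Noetherian space with a constructibility property.
-/

set_option autoImplicit false

open TopologicalSpace Set

namespace Groth.Agent.QcMonoLib

variable {X A : Type*} [TopologicalSpace X] [TopologicalSpace A] [NoetherianSpace A] (f : X → A)

/-- By Noetherian induction, parts of the image are covered by images of compact sets. -/
theorem exists_compact_cover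
    (h : ∀ Z : Set A, IsClosed Z → IsIrreducible Z → Z ⊆ closure (range f ∩ Z) →
      ∃ O : Set A, IsOpen O ∧ (O ∩ Z).Nonempty ∧ ∃ K : Set X, IsCompact K ∧ range f ∩ (O ∩ Z) ⊆ f '' K) :
    ∃ K : Set X, IsCompact K ∧ range f ⊆ f '' K := by
  suffices key : ∀ Z : Closeds A, ∃ K : Set X, IsCompact K ∧ range f ∩ (Z : Set A) ⊆ f '' K by
    obtain ⟨K, hK, hK'⟩ := key ⊤
    exact ⟨K, hK, fun a ha => hK' ⟨ha, trivial⟩⟩
  intro Z
  induction Z using WellFoundedLT.induction with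
  | ind Z ih =>
    have hsub : ∀ (W : Set A), IsClosed W → W ⊆ Z → W ≠ Z → ∃ K : Set X, IsCompact K ∧ range f ∩ W ⊆ f '' K :=
      fun W hW hle hne => ih ⟨W, hW⟩ (lt_of_le_of_ne hle fun e => hne (congrArg (fun C : Closeds A => (C : Set A)) e))
    by_cases hne : (Z : Set A).Nonempty
    swap
    · exact ⟨∅, isCompact_empty, fun a ha => absurd ⟨a, ha.2⟩ hne⟩
    by_cases hirr : IsPreirreducible (Z : Set A)
    · by_cases hd : (Z : Set A) ⊆ closure (range f ∩ Z)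
      · obtain ⟨O, hO, hOZ, K, hK, hKO⟩ := h _ Z.isClosed ⟨hne, hirr⟩ hd
        obtain ⟨K', hK', hK'Z⟩ := hsub ((Z : Set A) \ O) (Z.isClosed.sdiff hO) sdiff_le fun e => by
          obtain ⟨a, haO, haZ⟩ := hOZ
          exact (e.symm ▸ haZ : a ∈ (Z : Set A) \ O).2 haO
        refine ⟨K ∪ K', hK.union hK', fun a ⟨ha, haZ⟩ => ?_⟩
        rw [image_union]
        by_cases haO : a ∈ O
        · exact Or.inl (hKO ⟨ha, haO, haZ⟩)
        · exact Or.inr (hK'Z ⟨ha, haZ, haO⟩)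
      · have hle : closure (range f ∩ Z) ⊆ Z := Z.isClosed.closure_subset_iff.2 inter_subset_right
        obtain ⟨K, hK, hK'⟩ := hsub _ isClosed_closure hle fun e => hd e.ge
        exact ⟨K, hK, fun a ha => hK' ⟨ha.1, subset_closure ha⟩⟩
    · rw [isPreirreducible_iff_isClosed_union_isClosed] at hirr
      push Not at hirr
      obtain ⟨z₁, z₂, h₁, h₂, hcov, hn₁, hn₂⟩ := hirr
      obtain ⟨K₁, hK₁, hK₁'⟩ := hsub ((Z : Set A) ∩ z₁) (Z.isClosed.inter h₁) inter_subset_left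
        fun e => hn₁ fun a ha => (e.symm ▸ ha : a ∈ (Z : Set A) ∩ z₁).2
      obtain ⟨K₂, hK₂, hK₂'⟩ := hsub ((Z : Set A) ∩ z₂) (Z.isClosed.inter h₂) inter_subset_left
        fun e => hn₂ fun a ha => (e.symm ▸ ha : a ∈ (Z : Set A) ∩ z₂).2
      refine ⟨K₁ ∪ K₂, hK₁.union hK₂, fun a ⟨ha, haZ⟩ => ?_⟩
      rw [image_union]
      rcases hcov haZ with h | h
      · exact Or.inl (hK₁' ⟨ha, haZ, h⟩)
      · exact Or.inr (hK₂' ⟨ha, haZ, h⟩)

theorem compactSpace_of_injective (hinj : Function.Injective f)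
    (h : ∀ Z : Set A, IsClosed Z → IsIrreducible Z → Z ⊆ closure (range f ∩ Z) →
      ∃ O : Set A, IsOpen O ∧ (O ∩ Z).Nonempty ∧ ∃ K : Set X, IsCompact K ∧ range f ∩ (O ∩ Z) ⊆ f '' K) :
    CompactSpace X := by
  obtain ⟨K, hK, hK'⟩ := exists_compact_cover f h
  refine ⟨?_⟩
  have : K = univ := eq_univ_of_forall fun x => by
    obtain ⟨y, hy, e⟩ := hK' ⟨x, rfl⟩
    exact hinj e ▸ hy
  exact this ▸ hK

/-- By Noetherian induction, full preimages of parts of the image are contained in compact sets. -/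
theorem compactSpace_of_preimage
    (h : ∀ Z : Set A, IsClosed Z → IsIrreducible Z → Z ⊆ closure (range f ∩ Z) →
      ∃ O : Set A, IsOpen O ∧ (O ∩ Z).Nonempty ∧ ∃ K : Set X, IsCompact K ∧ f ⁻¹' (O ∩ Z) ⊆ K) :
    CompactSpace X := by
  suffices key : ∀ Z : Closeds A, ∃ K : Set X, IsCompact K ∧ f ⁻¹' (Z : Set A) ⊆ K by
    obtain ⟨K, hK, hK'⟩ := key ⊤
    exact ⟨(eq_univ_of_forall fun x => hK' trivial : K = univ) ▸ hK⟩
  intro Z
  induction Z using WellFoundedLT.induction with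
  | ind Z ih =>
    have hsub : ∀ (W : Set A), IsClosed W → W ⊆ Z → W ≠ Z → ∃ K : Set X, IsCompact K ∧ f ⁻¹' W ⊆ K :=
      fun W hW hle hne => ih ⟨W, hW⟩ (lt_of_le_of_ne hle fun e => hne (congrArg (fun C : Closeds A => (C : Set A)) e))
    by_cases hne : (Z : Set A).Nonempty
    swap
    · exact ⟨∅, isCompact_empty, fun x hx => absurd ⟨f x, hx⟩ hne⟩
    by_cases hirr : IsPreirreducible (Z : Set A)
    · by_cases hd : (Z : Set A) ⊆ closure (range f ∩ Z)
      · obtain ⟨O, hO, hOZ, K, hK, hKO⟩ := h _ Z.isClosed ⟨hne, hirr⟩ hd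
        obtain ⟨K', hK', hK'Z⟩ := hsub ((Z : Set A) \ O) (Z.isClosed.sdiff hO) sdiff_le fun e => by
          obtain ⟨a, haO, haZ⟩ := hOZ
          exact (e.symm ▸ haZ : a ∈ (Z : Set A) \ O).2 haO
        refine ⟨K ∪ K', hK.union hK', fun x hxZ => ?_⟩
        by_cases hxO : f x ∈ O
        · exact Or.inl (hKO ⟨hxO, hxZ⟩)
        · exact Or.inr (hK'Z ⟨hxZ, hxO⟩)
      · have hle : closure (range f ∩ Z) ⊆ Z := Z.isClosed.closure_subset_iff.2 inter_subset_right
        obtain ⟨K, hK, hK'⟩ := hsub _ isClosed_closure hle fun e => hd e.ge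
        exact ⟨K, hK, fun x hx => hK' (subset_closure ⟨⟨x, rfl⟩, hx⟩)⟩
    · rw [isPreirreducible_iff_isClosed_union_isClosed] at hirr
      push Not at hirr
      obtain ⟨z₁, z₂, h₁, h₂, hcov, hn₁, hn₂⟩ := hirr
      obtain ⟨K₁, hK₁, hK₁'⟩ := hsub ((Z : Set A) ∩ z₁) (Z.isClosed.inter h₁) inter_subset_left
        fun e => hn₁ fun a ha => (e.symm ▸ ha : a ∈ (Z : Set A) ∩ z₁).2
      obtain ⟨K₂, hK₂, hK₂'⟩ := hsub ((Z : Set A) ∩ z₂) (Z.isClosed.inter h₂) inter_subset_left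
        fun e => hn₂ fun a ha => (e.symm ▸ ha : a ∈ (Z : Set A) ∩ z₂).2
      refine ⟨K₁ ∪ K₂, hK₁.union hK₂, fun x hxZ => ?_⟩
      rcases hcov hxZ with h | h
      · exact Or.inl (hK₁' ⟨hxZ, h⟩)
      · exact Or.inr (hK₂' ⟨hxZ, h⟩)

end Groth.Agent.QcMonoLib
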