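import Groth.Agent.QcMonoLib.Noeth
import Groth.Agent.ASp.FieldMono
import Groth.Agent.ASp.Points
import Groth.Agent.ASp.Morph
import Groth.Agent.ASp.Quot
import Mathlib.RingTheory.Spectrum.Prime.Noetherian
/-!
Compactness of an algebraic space mapping monomorphically to a Noetherian affine scheme with constructible image.
-/

set_option autoImplicit false
set_option backward.isDefEq.respectTransparency false
set_option backward.isDefEq.respectTransparency.types false
set_option linter.unusedSectionVars false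
set_option linter.style.haveILetI false

universe u

open CategoryTheory CategoryTheory.Limits AlgebraicGeometry Opposite

namespace Groth.Agent.QcMonoLib

open _root_.AlgSp Groth.Agent.ASp

variable {S : Scheme.{u}}

theorem injective_map_of_mono {F G : Sp S} (f : F ⟶ G) [Mono f] : Function.Injective (Points.map f) := by
  intro x y e
  have sq : IsPullback (𝟙 F) (𝟙 F) f f :=
    ⟨⟨rfl⟩, ⟨PullbackCone.IsLimit.mk _ (fun s => s.fst) (fun s => Category.comp_id _)
      (fun s => (Category.comp_id _).trans ((cancel_mono f).1 s.condition))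
      fun s m h₁ _ => (Category.comp_id m).symm.trans h₁⟩⟩
  obtain ⟨z, h₁, h₂⟩ := points_exists_of_isPullback sq x y e
  exact h₁.symm.trans h₂

/-- The test point lifts. -/
def Lifts {F : Sp S} {A : Over S} (π : F ⟶ (yon S).obj A) {T : Over S} (k : T ⟶ A) : Prop :=
  ∃ σ : (yon S).obj T ⟶ F, σ ≫ π = (yon S).map k

theorem lifts_residue {F : Sp S} (hF : IsAlgSpace F) {A : Over S} (π : F ⟶ (yon S).obj A) [Mono π]
    {X : Scheme.{u}} (q : ↥X) (str : X ⟶ S)
    (k : Over.mk (X.fromSpecResidueField q ≫ str) ⟶ A) (x : Points F)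
    (hx : ∀ t, Points.map π x = Points.schemeHomeo A (k.left t)) : Lifts π k := by
  obtain ⟨t⟩ : Nonempty ↥(Spec (X.residueField q)) := inferInstance
  have sq := IsPullback.of_hasPullback π ((yon S).map k)
  have hP : IsAlgSpace (pullback π ((yon S).map k)) :=
    isAlgSpace_of_isPullback (IsAlgSpace.yon_obj A).diag hF (IsAlgSpace.yon_obj _) sq
  obtain ⟨z, -, -⟩ := points_exists_of_isPullback sq x (Points.schemeHomeo _ t)
    ((hx t).trans (Points.map_yon_map_apply k t).symm)
  induction z using Points.ind with | h p =>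
  let ξ : (yon S).obj p.pt ⟶ pullback π ((yon S).map k) := (J S).uliftYonedaEquiv.{u+1}.symm p.val
  obtain ⟨r, hr⟩ := (yon S).map_surjective (ξ ≫ pullback.snd π ((yon S).map k))
  haveI : IsIso (pullback.snd π ((yon S).map k)) :=
    isIso_of_mono_field (K := X.residueField q) (Ω := p.K) hP (pullback.snd π ((yon S).map k)) r ξ hr.symm
  exact ⟨inv (pullback.snd π ((yon S).map k)) ≫ pullback.fst π ((yon S).map k), by
    rw [Category.assoc, pullback.condition, IsIso.inv_hom_id_assoc]⟩

/-- A monomorphism to a Noetherian affine scheme through which dense sets of points generically lift. -/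
theorem compactSpace_of_lift {F : Sp S} (hF : IsAlgSpace F) {R : CommRingCat.{u}} [IsNoetherianRing R]
    (str : Spec R ⟶ S) (π : F ⟶ (yon S).obj (Over.mk str)) [Mono π]
    (hlift : ∀ (p : Ideal R) [p.IsPrime],
      let jp := Spec.map (CommRingCat.ofHom (Ideal.Quotient.mk p))
      let j : Over.mk (jp ≫ str) ⟶ Over.mk str := Over.homMk jp rfl
      ∀ D : Set ↥(Spec (CommRingCat.of (R ⧸ p))), Dense D →
        (∀ q ∈ D, Lifts π ((Over.homMk ((Spec (CommRingCat.of (R ⧸ p))).fromSpecResidueField q) rfl :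
          Over.mk ((Spec (CommRingCat.of (R ⧸ p))).fromSpecResidueField q ≫ jp ≫ str) ⟶ Over.mk (jp ≫ str)) ≫ j)) →
        ∃ U : (Spec (CommRingCat.of (R ⧸ p))).Opens, (U : Set ↥(Spec (CommRingCat.of (R ⧸ p)))).Nonempty ∧
          Lifts π ((Over.homMk U.ι rfl : Over.mk (U.ι ≫ jp ≫ str) ⟶ Over.mk (jp ≫ str)) ≫ j)) :
    CompactSpace (Points F) := by
  let A : Over S := Over.mk str
  let f : Points F → ↥(Spec R) := fun x => (Points.schemeHomeo A).symm (Points.map π x)
  haveI : TopologicalSpace.NoetherianSpace ↥(Spec R) := inferInstanceAs (TopologicalSpace.NoetherianSpace (PrimeSpectrum R))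
  refine compactSpace_of_injective f
    ((Points.schemeHomeo A).symm.injective.comp (injective_map_of_mono π)) fun Z hZc hZi hd => ?_
  haveI hp : (PrimeSpectrum.vanishingIdeal Z).IsPrime :=
    (PrimeSpectrum.isIrreducible_iff_vanishingIdeal_isPrime).1 hZi
  let p := PrimeSpectrum.vanishingIdeal Z
  let jp := Spec.map (CommRingCat.ofHom (Ideal.Quotient.mk p))
  have hj : Topology.IsClosedEmbedding jp :=
    PrimeSpectrum.isClosedEmbedding_comap_of_surjective _ _ Ideal.Quotient.mk_surjective
  have hr : Set.range jp = Z := by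
    refine (range_comap_of_surjective _ _ Ideal.Quotient.mk_surjective).trans ?_
    rw [Ideal.mk_ker]
    exact (PrimeSpectrum.zeroLocus_vanishingIdeal_eq_closure Z).trans hZc.closure_eq
  let D : Set ↥(Spec (CommRingCat.of (R ⧸ p))) := jp ⁻¹' Set.range f
  have hD : Dense D := fun q => by
    rw [hj.isInducing.closure_eq_preimage_closure_image, Set.image_preimage_eq_inter_range, hr]
    exact hd (hr ▸ Set.mem_range_self q)
  obtain ⟨U, hU, σ, hσ⟩ := hlift p D hD fun q hq => by
    obtain ⟨x, hx⟩ := hq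
    refine lifts_residue hF π q (jp ≫ str) _ x fun t => ?_
    have h1 : Points.map π x = Points.schemeHomeo A (jp q) := (Equiv.symm_apply_eq _).1 hx
    rw [h1, Over.comp_left, Scheme.Hom.comp_apply]
    congr 2
    exact ((Spec (CommRingCat.of (R ⧸ p))).fromSpecResidueField_apply q t).symm
  obtain ⟨O, hO, hOU⟩ := hj.isInducing.isOpen_iff.1 U.2
  let k := (Over.homMk U.ι rfl : Over.mk (U.ι ≫ jp ≫ str) ⟶ Over.mk (jp ≫ str)) ≫
    (Over.homMk jp rfl : Over.mk (jp ≫ str) ⟶ A)
  haveI : CompactSpace ↥(Over.mk (U.ι ≫ jp ≫ str)).left :=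
    isCompact_iff_compactSpace.1 (TopologicalSpace.NoetherianSpace.isCompact (U : Set ↥(Spec (CommRingCat.of (R ⧸ p)))))
  haveI := (Points.schemeHomeo (Over.mk (U.ι ≫ jp ≫ str))).compactSpace
  refine ⟨O, hO, ?_, Set.range (Points.map σ), isCompact_range (Points.continuous_map σ), ?_⟩
  · obtain ⟨q, hq⟩ := hU
    refine ⟨jp q, ?_, hr ▸ Set.mem_range_self q⟩
    exact (Set.ext_iff.1 hOU q).2 hq
  · rintro a ⟨-, haO, haZ⟩
    obtain ⟨q, rfl⟩ := hr.symm ▸ haZ
    refine ⟨Points.map σ (Points.schemeHomeo _ (⟨q, (Set.ext_iff.1 hOU q).1 haO⟩ : ↥U)), ⟨_, rfl⟩, ?_⟩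
    refine (Points.schemeHomeo A).injective ?_
    simp only [f, Homeomorph.apply_symm_apply]
    rw [← Points.map_comp, hσ, Points.map_yon_map_apply]
    rfl

end Groth.Agent.QcMonoLib
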