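import Groth.Agent.QcMonoLib.Space
import Groth.Agent.IsoSmLib.Lift
import Groth.Agent.ASt.RepDesc
import Groth.Agent.ASt.FibMaps
/-!
A monomorphism of stacks through which dense sets of points generically lift is quasi-compact.
-/

set_option autoImplicit false
set_option backward.isDefEq.respectTransparency false
set_option backward.isDefEq.respectTransparency.types false
set_option linter.unusedSectionVars false
set_option linter.style.haveILetI false

universe u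

open CategoryTheory CategoryTheory.Limits AlgebraicGeometry Opposite Topology

namespace Groth.Agent.QcMonoLib

open _root_.AlgSp Groth.Agent.ASt Groth.Agent.ASp
open Groth.Agent.IsoSmLib (Pt secOf homOf secOf_homOf secOf_injective secOf_map secOf_comp)

variable {S : Scheme.{u}} {𝒳 𝒴 : AlgSt.Cat S} [h𝒳 : FibCat.IsFibGrpd 𝒳.p] [h𝒴 : FibCat.IsFibGrpd 𝒴.p]
  {f : 𝒴 ⥤ᵇ 𝒳}

/-- Up to isomorphism the test morphism lifts. -/
def Has (f : 𝒴 ⥤ᵇ 𝒳) {B : Over S} (a : FibCat.overCat B ⥤ᵇ 𝒳) {T : Over S} (k : T ⟶ B) : Prop :=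
  ∃ yp : FibCat.overCat T ⥤ᵇ 𝒴, Nonempty (BasedFunctor.comp yp f ≅ BasedFunctor.comp (AlgSt.overMap k) a)

theorem lifts_of_has {B : Over S} (a : FibCat.overCat B ⥤ᵇ 𝒳) (hs : Presheaf.IsSheaf (J S) (fib a f))
    {T : Over S} (k : T ⟶ B) (h : Has f a k) :
    Lifts (ObjectProperty.homMk (fibπ a f) : (⟨fib a f, hs⟩ : Sp S) ⟶ (yon S).obj B) k := by
  obtain ⟨yp, ⟨α⟩⟩ := h
  let ψ : a.obj (ov k) ⟶ a.obj (ov (𝟙 T ≫ k)) :=
    a.map (ovHom (𝟙 T) (by simp) : ov k ⟶ ov (𝟙 T ≫ k))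
  let P : Pt f a k :=
    { x := yp.obj (ov (𝟙 T))
      hx := (yp.w_obj _).trans (ov_base _)
      φ := ψ ≫ α.inv.toNatTrans.app (ov (𝟙 T))
      hφ := by
        rw [Functor.map_comp, map_app, map_w, ov_p_map]
        simp
        erw [Category.id_comp, eqToHom_trans] }
  refine ⟨homOf P.el, secOf_injective ?_⟩
  rw [secOf_comp, secOf_homOf]
  change (fibπ a f).app (op T) P.el = _
  rw [fibπ_app, P.fpHom_el]
  exact congrArg ULift.up (Category.id_comp k).symm

theorem has_of_lifts {B : Over S} (a : FibCat.overCat B ⥤ᵇ 𝒳) (hs : Presheaf.IsSheaf (J S) (fib a f))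
    {T : Over S} (k : T ⟶ B)
    (h : Lifts (ObjectProperty.homMk (fibπ a f) : (⟨fib a f, hs⟩ : Sp S) ⟶ (yon S).obj B) k) : Has f a k := by
  obtain ⟨σ, hσ⟩ := h
  obtain ⟨g, P, hP⟩ := Pt.exists_el (secOf σ : ClType (FibCat.fp a f) T)
  obtain rfl : g = k := by
    have h := congrArg secOf hσ
    rw [secOf_comp] at h
    change (fibπ a f).app (op T) (secOf σ) = _ at h
    rw [fibπ_app, ← hP, P.fpHom_el] at h
    exact (congrArg ULift.down h).trans (Category.id_comp k)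
  haveI := isIso_of_vert P.φ P.hφ
  have hinv : 𝒳.p.map (inv P.φ) = eqToHom (((a.w_obj (ov g)).trans (ov_base g)).trans
      (P.hx.symm.trans (f.w_obj P.x).symm)).symm := by
    rw [Functor.map_inv, IsIso.inv_eq_of_hom_inv_id]
    rw [P.hφ]
    simp
  refine ⟨objFun P.x P.hx, ⟨funIso (y := BasedFunctor.comp (objFun P.x P.hx) f)
    (y' := BasedFunctor.comp (AlgSt.overMap g) a)
    (f.map (pullHom P.x P.hx (𝟙 T)) ≫ inv P.φ ≫
      a.map (ovHom (𝟙 T) (by simp) : ov g ⟶ ov (𝟙 T ≫ g))) ?_⟩⟩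
  rw [Functor.map_comp, Functor.map_comp, map_w, map_pullHom, hinv, map_w, ov_p_map]
  simp
  erw [Category.id_comp, eqToHom_trans]

theorem lifts_restr {A B : Over S} (l : B ⟶ A) (a : FibCat.overCat A ⥤ᵇ 𝒳) (hs : Presheaf.IsSheaf (J S) (fib a f))
    (hs' : Presheaf.IsSheaf (J S) (fib (BasedFunctor.comp (AlgSt.overMap l) a) f)) {T : Over S} (h : T ⟶ B) :
    Lifts (ObjectProperty.homMk (fibπ (BasedFunctor.comp (AlgSt.overMap l) a) f) :
      (⟨fib (BasedFunctor.comp (AlgSt.overMap l) a) f, hs'⟩ : Sp S) ⟶ (yon S).obj B) h ↔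
    Lifts (ObjectProperty.homMk (fibπ a f) : (⟨fib a f, hs⟩ : Sp S) ⟶ (yon S).obj A) (h ≫ l) := by
  have sq : IsPullback
      (ObjectProperty.homMk (clFun (restrF l a f)) :
        (⟨fib (BasedFunctor.comp (AlgSt.overMap l) a) f, hs'⟩ : Sp S) ⟶ (⟨fib a f, hs⟩ : Sp S))
      (ObjectProperty.homMk (fibπ (BasedFunctor.comp (AlgSt.overMap l) a) f))
      (ObjectProperty.homMk (fibπ a f)) ((yon S).map l) :=
    IsPullback.of_map_of_faithful (sheafToPresheaf (J S) (Type (u + 1))) (isPullback_restrF l a)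
  constructor
  · rintro ⟨σ, hσ⟩
    exact ⟨σ ≫ _, by rw [Category.assoc, sq.w, ← Category.assoc, hσ, Functor.map_comp]⟩
  · rintro ⟨σ, hσ⟩
    exact ⟨sq.lift σ ((yon S).map h) (by rw [hσ, Functor.map_comp]), sq.lift_snd _ _ _⟩

/-- Quasi-compact base change keeps the space of points compact. -/
theorem compactSpace_pullback {F G : Sp S} (hF : IsAlgSpace F) [CompactSpace (Points F)] {A B : Over S}
    {π : F ⟶ (yon S).obj A} {b : B ⟶ A} [QuasiCompact b.left] {fst : G ⟶ F} {snd : G ⟶ (yon S).obj B}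
    (sq : IsPullback fst snd π ((yon S).map b)) : CompactSpace (Points G) := by
  obtain ⟨E, p, hE, hpe, hps⟩ := exists_affine_chart hF
  obtain ⟨k, hk⟩ := (yon S).map_surjective (p ≫ π)
  let P := Limits.pullback k b
  have sq₂ : IsPullback ((yon S).map (pullback.fst k b)) ((yon S).map (pullback.snd k b)) (p ≫ π) ((yon S).map b) := by
    rw [← hk]
    exact (IsPullback.of_hasPullback k b).map (yon S)
  let m := sq.lift ((yon S).map (pullback.fst k b) ≫ p) ((yon S).map (pullback.snd k b))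
    (by rw [Category.assoc, sq₂.w])
  have sq₃ : IsPullback ((yon S).map (pullback.fst k b)) m p fst :=
    IsPullback.of_bot (by rw [sq.lift_snd]; exact sq₂) (sq.lift_fst _ _ _).symm sq
  have hm : Function.Surjective (Points.map m) :=
    surjective_map_of_isPullback sq₃ (surjective_map_of_repWith hps)
  haveI : QuasiCompact (pullback.fst k b).left :=
    MorphismProperty.of_isPullback ((IsPullback.of_hasPullback k b).map (Over.forget S)).flip
      (show QuasiCompact b.left from inferInstance)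
  haveI : CompactSpace ↥E.left := inferInstance
  haveI : CompactSpace ↥P.left := QuasiCompact.compactSpace_of_compactSpace (pullback.fst k b).left
  haveI := (Points.schemeHomeo P).compactSpace
  exact hm.compactSpace (Points.continuous_map m)

/-- Composites of changes of slice. -/
noncomputable def assocIso {A B C : Over S} (b : C ⟶ B) (i : B ⟶ A) (a : FibCat.overCat A ⥤ᵇ 𝒳) :
    BasedFunctor.comp (AlgSt.overMap b) (BasedFunctor.comp (AlgSt.overMap i) a) ≅
      BasedFunctor.comp (AlgSt.overMap (b ≫ i)) a :=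
  funIso (y := BasedFunctor.comp (AlgSt.overMap b) (BasedFunctor.comp (AlgSt.overMap i) a))
    (y' := BasedFunctor.comp (AlgSt.overMap (b ≫ i)) a)
    (a.map (ovHom (𝟙 C) (by simp) : ov ((𝟙 C ≫ b) ≫ i) ⟶ ov (𝟙 C ≫ b ≫ i)))
    (by rw [map_w, ov_p_map]; simp; erw [Category.id_comp, eqToHom_trans]; rfl)

/-- Equal changes of slice. -/
noncomputable def congrIso {A B : Over S} {g g' : B ⟶ A} (h : g = g') (a : FibCat.overCat A ⥤ᵇ 𝒳) :
    BasedFunctor.comp (AlgSt.overMap g) a ≅ BasedFunctor.comp (AlgSt.overMap g') a :=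
  eqToIso (by rw [h])

section Main

variable (hf : AlgSt.RepByAlgSp1 f) (hm : AlgSt.IsMono f)
  (hc : ∀ (A : Type u) [CommRing A] [IsDomain A] (sA : Spec (CommRingCat.of A) ⟶ S)
      (a : FibCat.overCat (Over.mk sA) ⥤ᵇ 𝒳) (D : Set ↥(Spec (CommRingCat.of A))), Dense D →
      (∀ p ∈ D, Has f a (Over.homMk ((Spec (CommRingCat.of A)).fromSpecResidueField p) rfl :
        Over.mk (((Spec (CommRingCat.of A)).fromSpecResidueField p) ≫ sA) ⟶ Over.mk sA)) →
      ∃ U : (Spec (CommRingCat.of A)).Opens, (U : Set ↥(Spec (CommRingCat.of A))).Nonempty ∧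
        Has f a (Over.homMk (U.ι) rfl : Over.mk ((U.ι) ≫ sA) ⟶ Over.mk sA))

include hf hm hc in
theorem compactSpace_fib_noeth {R : CommRingCat.{u}} [IsNoetherianRing R] (str : Spec R ⟶ S)
    (a : FibCat.overCat (Over.mk str) ⥤ᵇ 𝒳) (hs : Presheaf.IsSheaf (J S) (fib a f)) :
    CompactSpace (Points (⟨fib a f, hs⟩ : Sp S)) := by
  obtain ⟨_, hA, hmono⟩ := (repByAlgSpWith_iff.1 hm).2 _ a
  haveI : Mono (ObjectProperty.homMk (fibπ a f) : (⟨fib a f, hs⟩ : Sp S) ⟶ (yon S).obj (Over.mk str)) := hmono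
  refine compactSpace_of_lift hA str
    (ObjectProperty.homMk (fibπ a f) : (⟨fib a f, hs⟩ : Sp S) ⟶ (yon S).obj (Over.mk str)) fun p _ => ?_
  intro jp j D hD hq
  haveI : IsDomain (R ⧸ p) := Ideal.Quotient.isDomain p
  let a' := BasedFunctor.comp (AlgSt.overMap j) a
  obtain ⟨hs', -⟩ := (repByAlgSp1_iff.1 hf).2 _ a'
  obtain ⟨U, hU, h⟩ := hc (R ⧸ p) (jp ≫ str) a' D hD fun q hqD =>
    has_of_lifts a' hs' _ ((lifts_restr j a hs hs' _).2 (hq q hqD))
  exact ⟨U, hU, (lifts_restr j a hs hs' _).1 (lifts_of_has a' hs' _ h)⟩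

end Main

section Generic

variable (hf : AlgSt.RepByAlgSp1 f)
  (hcomp : ∀ {R : CommRingCat.{u}} [IsNoetherianRing R] (str : Spec R ⟶ S)
    (a : FibCat.overCat (Over.mk str) ⥤ᵇ 𝒳) (hs : Presheaf.IsSheaf (J S) (fib a f)),
    CompactSpace (Points (⟨fib a f, hs⟩ : Sp S)))

include hf hcomp in
theorem exists_piece {U₀ : Over S} (x : FibCat.overCat U₀ ⥤ᵇ 𝒳) [IsLocallyNoetherian U₀.left]
    {W V' : Over S} {yW : FibCat.overCat W ⥤ᵇ 𝒳} (hsW : Presheaf.IsSheaf (J S) (fib yW f)) {l : V' ⟶ W}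
    {u : V' ⟶ U₀} (α : BasedFunctor.comp (AlgSt.overMap l) yW ≅ BasedFunctor.comp (AlgSt.overMap u) x)
    {A : U₀.left.Opens} {B : V'.left.Opens} (hA₁ : IsAffineOpen A) (hB₁ : IsAffineOpen B)
    (hBA : B ≤ u.left ⁻¹ᵁ A) :
    ∃ (G : Sp S) (m : G ⟶ (⟨fib yW f, hsW⟩ : Sp S)), CompactSpace (Points G) ∧
      ∀ z, Points.map (ObjectProperty.homMk (fibπ yW f) : (⟨fib yW f, hsW⟩ : Sp S) ⟶ (yon S).obj W) z ∈
        Points.schemeHomeo W '' (l.left '' (B : Set ↥V'.left)) → z ∈ Set.range (Points.map m) := by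
  haveI : IsNoetherianRing Γ(U₀.left, A) :=
    IsLocallyNoetherian.component_noetherian ⟨A, hA₁⟩
  let iA : Over.mk (hA₁.fromSpec ≫ U₀.hom) ⟶ U₀ := Over.homMk hA₁.fromSpec rfl
  let aA := BasedFunctor.comp (AlgSt.overMap iA) x
  obtain ⟨hsA, hAA⟩ := (repByAlgSp1_iff.1 hf).2 _ aA
  haveI := hcomp (hA₁.fromSpec ≫ U₀.hom) aA hsA
  let Bo : Over S := Over.mk (B.ι ≫ V'.hom)
  let iB : Bo ⟶ V' := Over.homMk B.ι rfl
  have hrange : Set.range (B.ι ≫ u.left) ⊆ Set.range hA₁.fromSpec := by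
    rw [hA₁.range_fromSpec]
    rintro _ ⟨z, rfl⟩
    exact hBA z.2
  let b : Bo ⟶ Over.mk (hA₁.fromSpec ≫ U₀.hom) :=
    Over.homMk (IsOpenImmersion.lift hA₁.fromSpec (B.ι ≫ u.left) hrange) (by
      change _ ≫ hA₁.fromSpec ≫ U₀.hom = B.ι ≫ V'.hom
      rw [IsOpenImmersion.lift_fac_assoc, Category.assoc, Over.w u])
  have hb : b ≫ iA = iB ≫ u := Over.OverMorphism.ext (IsOpenImmersion.lift_fac _ _ _)
  haveI : IsAffine Bo.left := hB₁
  haveI : IsAffine (Over.mk (hA₁.fromSpec ≫ U₀.hom)).left := inferInstanceAs (IsAffine (Spec _))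
  haveI : QuasiCompact b.left := inferInstance
  let aB := BasedFunctor.comp (AlgSt.overMap b) aA
  obtain ⟨hsB, hAB⟩ := (repByAlgSp1_iff.1 hf).2 _ aB
  haveI := compactSpace_pullback hAA (IsPullback.of_map_of_faithful (sheafToPresheaf (J S) (Type (u + 1)))
    (isPullback_restrF b aA) : IsPullback (ObjectProperty.homMk (clFun (restrF b aA f)) :
        (⟨fib aB f, hsB⟩ : Sp S) ⟶ (⟨fib aA f, hsA⟩ : Sp S))
      (ObjectProperty.homMk (fibπ aB f)) (ObjectProperty.homMk (fibπ aA f)) ((yon S).map b))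
  let yB := BasedFunctor.comp (AlgSt.overMap (iB ≫ l)) yW
  obtain ⟨hsy, hAy⟩ := (repByAlgSp1_iff.1 hf).2 _ yB
  have β : aB ≅ yB :=
    (assocIso b iA x).trans ((congrIso hb x).trans
      ((assocIso iB u x).symm.trans ((wL (AlgSt.overMap iB) α.symm).trans (assocIso iB l yW))))
  let Φ : (⟨fib aB f, hsB⟩ : Sp S) ⟶ (⟨fib yB f, hsy⟩ : Sp S) := ObjectProperty.homMk (changeIso β f).hom
  haveI : IsIso Φ := ⟨ObjectProperty.homMk (changeIso β f).inv,
    ObjectProperty.hom_ext _ (changeIso β f).hom_inv_id, ObjectProperty.hom_ext _ (changeIso β f).inv_hom_id⟩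
  have sqB : IsPullback (ObjectProperty.homMk (clFun (restrF (iB ≫ l) yW f)) :
        (⟨fib yB f, hsy⟩ : Sp S) ⟶ (⟨fib yW f, hsW⟩ : Sp S))
      (ObjectProperty.homMk (fibπ yB f)) (ObjectProperty.homMk (fibπ yW f)) ((yon S).map (iB ≫ l)) :=
    IsPullback.of_map_of_faithful (sheafToPresheaf (J S) (Type (u + 1))) (isPullback_restrF (iB ≫ l) yW)
  refine ⟨_, Φ ≫ ObjectProperty.homMk (clFun (restrF (iB ≫ l) yW f)), inferInstance, fun z hz => ?_⟩
  obtain ⟨w, hw, hwz⟩ := hz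
  obtain ⟨v, hv, hvw⟩ := hw
  have he : (iB ≫ l).left ⟨v, hv⟩ = w := by
    rw [Over.comp_left, Scheme.Hom.comp_apply]
    exact hvw
  have hpt : Points.map (ObjectProperty.homMk (fibπ yW f) : (⟨fib yW f, hsW⟩ : Sp S) ⟶ (yon S).obj W) z =
      Points.map ((yon S).map (iB ≫ l)) (Points.schemeHomeo Bo ⟨v, hv⟩) := by
    rw [Points.map_yon_map_apply, he, hwz]
  obtain ⟨z', hz', -⟩ := points_exists_of_isPullback sqB z (Points.schemeHomeo Bo ⟨v, hv⟩) hpt
  refine ⟨Points.map (inv Φ) z', ?_⟩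
  rw [← Points.map_comp, IsIso.inv_hom_id_assoc, hz']

include hf hcomp in
/-- Quasi-compactness from compact fibres over Noetherian affine schemes and a chart through which all
test morphisms factor locally. -/
theorem repByAlgSpWith_qc_of_compact {U₀ : Over S} (x : FibCat.overCat U₀ ⥤ᵇ 𝒳) [IsLocallyNoetherian U₀.left]
    (hlift : ∀ {W : Over S} (yW : FibCat.overCat W ⥤ᵇ 𝒳), ∃ (V' : Over S) (l : V' ⟶ W) (u : V' ⟶ U₀),
      Smooth l.left ∧ Surjective l.left ∧
        Nonempty (BasedFunctor.comp (AlgSt.overMap l) yW ≅ BasedFunctor.comp (AlgSt.overMap u) x)) :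
    AlgSt.RepByAlgSpWith AlgSp.IsQuasiCompactMor f := by
  refine repByAlgSpWith_iff.2 ⟨faithful_of_repByAlgSp1 hf, fun V y => ?_⟩
  obtain ⟨hs, hA⟩ := (repByAlgSp1_iff.1 hf).2 V y
  refine ⟨hs, hA, fun Z Z' hZ hZc g fst snd sq => ?_⟩
  have hZ' : IsAlgSpace Z' := isAlgSpace_of_isPullback (IsAlgSpace.yon_obj V).diag hA hZ sq
  haveI := compactSpace_of_isQuasiCompactSp hZc
  obtain ⟨W, q, hW, hqe, hqs⟩ := exists_affine_chart hZ
  obtain ⟨k, hk⟩ := (yon S).map_surjective (q ≫ g)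
  let yW := BasedFunctor.comp (AlgSt.overMap k) y
  obtain ⟨hsW, hAW⟩ := (repByAlgSp1_iff.1 hf).2 W yW
  have sqF : IsPullback (ObjectProperty.homMk (clFun (restrF k y f)) :
        (⟨fib yW f, hsW⟩ : Sp S) ⟶ (⟨fib y f, hs⟩ : Sp S))
      (ObjectProperty.homMk (fibπ yW f)) (ObjectProperty.homMk (fibπ y f)) ((yon S).map k) :=
    IsPullback.of_map_of_faithful (sheafToPresheaf (J S) (Type (u + 1))) (isPullback_restrF k y)
  have sq' : IsPullback (sq.lift _ _ (by rw [sqF.w, hk, Category.assoc]))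
      (ObjectProperty.homMk (fibπ yW f) : (⟨fib yW f, hsW⟩ : Sp S) ⟶ (yon S).obj W) snd q :=
    IsPullback.of_right (by rw [sq.lift_fst, ← hk]; exact sqF) (sq.lift_snd _ _ _) sq
  suffices CompactSpace (Points (⟨fib yW f, hsW⟩ : Sp S)) by
    haveI := this
    haveI : CompactSpace (Points Z') :=
      (surjective_map_of_isPullback sq'.flip (surjective_map_of_repWith hqs)).compactSpace (Points.continuous_map _)
    exact isQuasiCompactSp_of_compactSpace hZ'
  obtain ⟨V', l, u, hl, hls, ⟨α⟩⟩ := hlift yW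
  haveI := hl
  haveI := hls
  have hB : ∀ w : ↥W.left, ∃ (A : U₀.left.Opens) (B : V'.left.Opens), IsAffineOpen A ∧ IsAffineOpen B ∧
      B ≤ u.left ⁻¹ᵁ A ∧ w ∈ l.left '' (B : Set ↥V'.left) := fun w => by
    obtain ⟨v, rfl⟩ := l.left.surjective w
    obtain ⟨A, hA', hvA, -⟩ := exists_isAffineOpen_mem_and_subset (U := ⊤)
      (show u.left v ∈ (⊤ : U₀.left.Opens) from trivial)
    obtain ⟨B, hB', hvB, hBA⟩ := exists_isAffineOpen_mem_and_subset (U := u.left ⁻¹ᵁ A) hvA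
    exact ⟨A, B, hA', hB', hBA, v, hvB, rfl⟩
  choose A B hAa hBa hBA hwB using hB
  obtain ⟨t, ht⟩ := isCompact_univ.elim_finite_subcover (fun w => l.left '' (B w : Set ↥V'.left))
    (fun w => l.left.isOpenMap _ (B w).2) (fun w _ => Set.mem_iUnion.2 ⟨w, hwB w⟩)
  have key : ∀ w : ↥W.left, ∃ (G : Sp S) (m : G ⟶ (⟨fib yW f, hsW⟩ : Sp S)), CompactSpace (Points G) ∧
      ∀ z, Points.map (ObjectProperty.homMk (fibπ yW f) : (⟨fib yW f, hsW⟩ : Sp S) ⟶ (yon S).obj W) z ∈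
        Points.schemeHomeo W '' (l.left '' (B w : Set ↥V'.left)) → z ∈ Set.range (Points.map m) := fun w =>
    exists_piece hf hcomp x hsW α (hAa w) (hBa w) (hBA w)
  choose G m hG hm' using key
  haveI : ∀ w, CompactSpace (Points (G w)) := hG
  refine ⟨?_⟩
  have hu : (Set.univ : Set (Points (⟨fib yW f, hsW⟩ : Sp S))) = ⋃ w ∈ t, Set.range (Points.map (m w)) := by
    refine (Set.eq_univ_of_forall fun z => ?_).symm
    let w₀ := (Points.schemeHomeo W).symm
      (Points.map (ObjectProperty.homMk (fibπ yW f) : (⟨fib yW f, hsW⟩ : Sp S) ⟶ (yon S).obj W) z)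
    obtain ⟨w, hwt, hw⟩ := Set.mem_iUnion₂.1 (ht (Set.mem_univ w₀))
    exact Set.mem_iUnion₂.2 ⟨w, hwt, hm' w z ⟨w₀, hw, Homeomorph.apply_symm_apply _ _⟩⟩
  rw [hu]
  exact t.finite_toSet.isCompact_biUnion fun w _ => isCompact_range (Points.continuous_map (m w))

end Generic

theorem repByAlgSpWith_qc (hf : AlgSt.RepByAlgSp1 f) (hm : AlgSt.IsMono f)
    (hc : ∀ (A : Type u) [CommRing A] [IsDomain A] (sA : Spec (CommRingCat.of A) ⟶ S)
      (a : FibCat.overCat (Over.mk sA) ⥤ᵇ 𝒳) (D : Set ↥(Spec (CommRingCat.of A))), Dense D →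
      (∀ p ∈ D, Has f a (Over.homMk ((Spec (CommRingCat.of A)).fromSpecResidueField p) rfl :
        Over.mk (((Spec (CommRingCat.of A)).fromSpecResidueField p) ≫ sA) ⟶ Over.mk sA)) →
      ∃ U : (Spec (CommRingCat.of A)).Opens, (U : Set ↥(Spec (CommRingCat.of A))).Nonempty ∧
        Has f a (Over.homMk (U.ι) rfl : Over.mk ((U.ι) ≫ sA) ⟶ Over.mk sA))
    {U₀ : Over S} (x : FibCat.overCat U₀ ⥤ᵇ 𝒳)
    (hx : AlgSt.RepByAlgSpWith (LocP @Smooth) x) (hxs : AlgSt.RepByAlgSpWith IsSurjectiveMor x)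
    [IsLocallyNoetherian U₀.left] :
    AlgSt.RepByAlgSpWith AlgSp.IsQuasiCompactMor f :=
  repByAlgSpWith_qc_of_compact hf (fun str a hs => compactSpace_fib_noeth hf hm hc str a hs) x
    (fun yW => exists_overMap_iso hx hxs yW)

end Groth.Agent.QcMonoLib
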